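import Cfsg.Agent.Lib.Fischer.Solvable.Identify
import Cfsg.Agent.Lib.Fischer.Solvable.Data.DataS6

/-! Checks on generated data, evaluated in the kernel. -/

set_option autoImplicit false
set_option maxRecDepth 20000

namespace Cfsg.Agent.Fischer.Solv.DataS6

open Cfsg.Agent.Presented

/-- The model. -/
noncomputable def model : Model where
  S := shape
  C := cert
  V := 15
  psiT := psiT
  psiInvT := psiInvT
  adjT := adjT
  tauT := tauT
  witT := witT

theorem rowOK_0 : checkBlock model.rowOK model.V 4 0 = true := by decide +kernel

theorem rowOK_all : checkBelow model.rowOK 4 model.V = true :=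
  checkBelow_of_block (by decide +kernel)
    rowOK_0

theorem pairOK_0 : checkBlock model.pairOK (model.V * model.V) 8 0 = true := by decide +kernel

theorem pairOK_all : checkBelow model.pairOK 8 (model.V * model.V) = true :=
  checkBelow_of_block (by decide +kernel)
    pairOK_0

theorem shape_ok : shape.ok = true := by decide +kernel

theorem model_relsOK : model.relsOK = true := by decide +kernel

theorem good : model.Good :=
  ⟨cert_edgesOK, cert_nodesOK, shape_ok, model_relsOK, checkBelow_spec rowOK_all,
    checkBelow_spec pairOK_all⟩

end Cfsg.Agent.Fischer.Solv.DataS6
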