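import Cfsg.Agent.Lib.Fischer.Solvable.Identify
import Cfsg.Agent.Lib.Fischer.Solvable.Data.DataU5

/-! Checks on generated data, evaluated in the kernel. -/

set_option autoImplicit false
set_option maxRecDepth 20000

namespace Cfsg.Agent.Fischer.Solv.DataU5

open Cfsg.Agent.Presented

/-- The model. -/
noncomputable def model : Model where
  S := shape
  C := cert
  V := 165
  psiT := psiT
  psiInvT := psiInvT
  adjT := adjT
  tauT := tauT
  witT := witT

theorem rowOK_0 : checkBlock model.rowOK model.V 4 0 = true := by decide +kernel

theorem rowOK_1 : checkBlock model.rowOK model.V 4 16 = true := by decide +kernel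

theorem rowOK_2 : checkBlock model.rowOK model.V 4 32 = true := by decide +kernel

theorem rowOK_3 : checkBlock model.rowOK model.V 4 48 = true := by decide +kernel

theorem rowOK_4 : checkBlock model.rowOK model.V 4 64 = true := by decide +kernel

theorem rowOK_5 : checkBlock model.rowOK model.V 4 80 = true := by decide +kernel

theorem rowOK_6 : checkBlock model.rowOK model.V 4 96 = true := by decide +kernel

theorem rowOK_7 : checkBlock model.rowOK model.V 4 112 = true := by decide +kernel

theorem rowOK_8 : checkBlock model.rowOK model.V 4 128 = true := by decide +kernel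

theorem rowOK_9 : checkBlock model.rowOK model.V 4 144 = true := by decide +kernel

theorem rowOK_10 : checkBlock model.rowOK model.V 4 160 = true := by decide +kernel

theorem rowOK_all : checkBelow model.rowOK 8 model.V = true :=
  checkBelow_of_block (by decide +kernel)
    (checkBlock_join 7
    (checkBlock_join 6
    (checkBlock_join 5
    (checkBlock_join 4
    rowOK_0
    rowOK_1)
    (checkBlock_join 4
    rowOK_2
    rowOK_3))
    (checkBlock_join 5
    (checkBlock_join 4
    rowOK_4
    rowOK_5)
    (checkBlock_join 4
    rowOK_6
    rowOK_7)))
    (checkBlock_join 6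
    (checkBlock_join 5
    (checkBlock_join 4
    rowOK_8
    rowOK_9)
    (checkBlock_join 4
    rowOK_10
    (checkBlock_ge 4 176 (Nat.le_of_ble_eq_true (by decide +kernel)))))
    (checkBlock_ge 6 192 (Nat.le_of_ble_eq_true (by decide +kernel)))))

theorem pairOK_0 : checkBlock model.pairOK (model.V * model.V) 12 0 = true := by decide +kernel

theorem pairOK_1 : checkBlock model.pairOK (model.V * model.V) 12 4096 = true := by decide +kernel

theorem pairOK_2 : checkBlock model.pairOK (model.V * model.V) 12 8192 = true := by decide +kernel

theorem pairOK_3 : checkBlock model.pairOK (model.V * model.V) 12 12288 = true := by decide +kernel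

theorem pairOK_4 : checkBlock model.pairOK (model.V * model.V) 12 16384 = true := by decide +kernel

theorem pairOK_5 : checkBlock model.pairOK (model.V * model.V) 12 20480 = true := by decide +kernel

theorem pairOK_6 : checkBlock model.pairOK (model.V * model.V) 12 24576 = true := by decide +kernel

theorem pairOK_all : checkBelow model.pairOK 15 (model.V * model.V) = true :=
  checkBelow_of_block (by decide +kernel)
    (checkBlock_join 14
    (checkBlock_join 13
    (checkBlock_join 12
    pairOK_0
    pairOK_1)
    (checkBlock_join 12
    pairOK_2
    pairOK_3))
    (checkBlock_join 13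
    (checkBlock_join 12
    pairOK_4
    pairOK_5)
    (checkBlock_join 12
    pairOK_6
    (checkBlock_ge 12 28672 (Nat.le_of_ble_eq_true (by decide +kernel))))))

theorem shape_ok : shape.ok = true := by decide +kernel

theorem model_relsOK : model.relsOK = true := by decide +kernel

theorem good : model.Good :=
  ⟨cert_edgesOK, cert_nodesOK, shape_ok, model_relsOK, checkBelow_spec rowOK_all,
    checkBelow_spec pairOK_all⟩

end Cfsg.Agent.Fischer.Solv.DataU5
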